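import Mathlib.CategoryTheory.Linear.LinearFunctor
import Mathlib.LinearAlgebra.Dual.Lemmas
import Mathlib.RingTheory.Finiteness.Defs

/-!
Objects representing duals of Hom functors in linear categories over a field, and Serre functors.
-/

set_option autoImplicit false

universe w v u

open CategoryTheory

namespace Groth.Agent.Serre

variable {k : Type w} [Field k] {T : Type u} [Category.{v} T] [Preadditive T] [Linear k T]

/-- The pairing map `(Y ⟶ Z) → Hom(X, Y)^∨` attached to a functional on `Hom(X, Z)`. -/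
def pairing {X Z : T} (τ : (X ⟶ Z) →ₗ[k] k) (Y : T) : (Y ⟶ Z) →ₗ[k] Module.Dual k (X ⟶ Y) where
  toFun g := τ ∘ₗ Linear.rightComp k X g
  map_add' g g' := by ext f; simp
  map_smul' r g := by ext f; simp

@[simp] theorem pairing_apply {X Z : T} (τ : (X ⟶ Z) →ₗ[k] k) {Y : T} (g : Y ⟶ Z) (f : X ⟶ Y) :
    pairing τ Y g f = τ (f ≫ g) := rfl

/-- `(Z, τ)` represents `Y ↦ Hom(X, Y)^∨`. -/
def IsRep {X Z : T} (τ : (X ⟶ Z) →ₗ[k] k) : Prop := ∀ Y : T, Function.Bijective (pairing τ Y)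

namespace IsRep

variable {X Z : T} {τ : (X ⟶ Z) →ₗ[k] k}

theorem hom_ext (h : IsRep τ) {Y : T} {g g' : Y ⟶ Z}
    (hg : ∀ f : X ⟶ Y, τ (f ≫ g) = τ (f ≫ g')) : g = g' :=
  (h Y).1 (LinearMap.ext hg)

/-- The morphism classifying a functional. -/
noncomputable def lift (h : IsRep τ) {Y : T} (φ : Module.Dual k (X ⟶ Y)) : Y ⟶ Z :=
  ((h Y).2 φ).choose

theorem lift_spec (h : IsRep τ) {Y : T} (φ : Module.Dual k (X ⟶ Y)) (f : X ⟶ Y) :
    τ (f ≫ h.lift φ) = φ f :=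
  DFunLike.congr_fun ((h Y).2 φ).choose_spec f

theorem eq_zero (h : IsRep τ) {Y : T} {g : Y ⟶ Z} (hg : ∀ f : X ⟶ Y, τ (f ≫ g) = 0) : g = 0 :=
  h.hom_ext fun f => by rw [hg, Limits.comp_zero, map_zero]

/-- Representing objects are unique up to unique isomorphism. -/
noncomputable def iso (h : IsRep τ) {Z' : T} {τ' : (X ⟶ Z') →ₗ[k] k} (h' : IsRep τ') : Z ≅ Z' where
  hom := h'.lift τ
  inv := h.lift τ'
  hom_inv_id := h.hom_ext fun f => by
    rw [← Category.assoc, h.lift_spec, h'.lift_spec, Category.comp_id]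
  inv_hom_id := h'.hom_ext fun f => by
    rw [← Category.assoc, h'.lift_spec, h.lift_spec, Category.comp_id]

theorem iso_hom_spec (h : IsRep τ) {Z' : T} {τ' : (X ⟶ Z') →ₗ[k] k} (h' : IsRep τ') (f : X ⟶ Z) :
    τ' (f ≫ (h.iso h').hom) = τ f :=
  h'.lift_spec τ f

end IsRep

section finite

variable [∀ X Y : T, Module.Finite k (X ⟶ Y)]

/-- Transposing a family of perfect pairings. -/
theorem isRep_of_transpose {X Z : T} (τ : (X ⟶ Z) →ₗ[k] k)
    (E : ∀ Y : T, (X ⟶ Y) ≃ₗ[k] Module.Dual k (Y ⟶ Z))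
    (hE : ∀ (Y : T) (f : X ⟶ Y) (g : Y ⟶ Z), E Y f g = τ (f ≫ g)) : IsRep τ := by
  intro Y
  have : ⇑(pairing τ Y) = ⇑((Module.evalEquiv k (Y ⟶ Z)).trans (E Y).dualMap) := by
    funext g
    ext f
    simp [hE]
  rw [this]
  exact LinearEquiv.bijective _

/-- The perfect pairing in the other variable. -/
noncomputable def transpose {X Z : T} {τ : (X ⟶ Z) →ₗ[k] k} (h : IsRep τ) (Y : T) :
    (X ⟶ Y) ≃ₗ[k] Module.Dual k (Y ⟶ Z) :=
  (Module.evalEquiv k (X ⟶ Y)).trans (LinearEquiv.ofBijective _ (h Y)).dualMap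

theorem transpose_apply {X Z : T} {τ : (X ⟶ Z) →ₗ[k] k} (h : IsRep τ) {Y : T} (f : X ⟶ Y)
    (g : Y ⟶ Z) : transpose h Y f g = τ (f ≫ g) := by
  simp [transpose]

variable (S : T ⥤ T) (c : ∀ X Y : T, (X ⟶ Y) ≃ₗ[k] Module.Dual k (Y ⟶ S.obj X))

/-- The trace of a Serre functor. -/
def tr (X : T) : (X ⟶ S.obj X) →ₗ[k] k := c X X (𝟙 X)

omit [∀ X Y : T, Module.Finite k (X ⟶ Y)] in
theorem c_apply (hc₁ : ∀ (X Y Y' : T) (f : X ⟶ Y) (g : Y ⟶ Y'),
      c X Y' (f ≫ g) = (c X Y f) ∘ₗ Linear.leftComp k (S.obj X) g)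
    {X Y : T} (f : X ⟶ Y) (g : Y ⟶ S.obj X) : c X Y f g = tr S c X (f ≫ g) := by
  have := DFunLike.congr_fun (hc₁ X X Y (𝟙 X) f) g
  rw [Category.id_comp] at this
  exact this

theorem isRep_tr (hc₁ : ∀ (X Y Y' : T) (f : X ⟶ Y) (g : Y ⟶ Y'),
      c X Y' (f ≫ g) = (c X Y f) ∘ₗ Linear.leftComp k (S.obj X) g) (X : T) : IsRep (tr S c X) :=
  isRep_of_transpose _ (c X) fun _ f g => c_apply S c hc₁ f g

omit [∀ X Y : T, Module.Finite k (X ⟶ Y)] in
theorem tr_comm (hc₁ : ∀ (X Y Y' : T) (f : X ⟶ Y) (g : Y ⟶ Y'),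
      c X Y' (f ≫ g) = (c X Y f) ∘ₗ Linear.leftComp k (S.obj X) g)
    (hc₂ : ∀ (X' X Y : T) (a : X' ⟶ X) (f : X ⟶ Y),
      c X' Y (a ≫ f) = (c X Y f) ∘ₗ Linear.rightComp k Y (S.map a))
    {X X' : T} (a : X' ⟶ X) (g : X ⟶ S.obj X') :
    tr S c X' (a ≫ g) = tr S c X (g ≫ S.map a) := by
  have h := DFunLike.congr_fun (hc₂ X' X X a (𝟙 X)) g
  rw [Category.comp_id, c_apply S c hc₁] at h
  exact h

end finite

/-- A functional killing the kernel of a linear map factors through it. -/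
theorem exists_factor {V W : Type*} [AddCommGroup V] [Module k V] [AddCommGroup W] [Module k W]
    (L : V →ₗ[k] W) (φ : Module.Dual k V) (h : ∀ v, L v = 0 → φ v = 0) :
    ∃ ψ : Module.Dual k W, ∀ v, ψ (L v) = φ v := by
  have hφ : φ ∈ LinearMap.range L.dualMap := by
    rw [LinearMap.range_dualMap_eq_dualAnnihilator_ker, Submodule.mem_dualAnnihilator]
    exact h
  obtain ⟨ψ, rfl⟩ := hφ
  exact ⟨ψ, fun v => rfl⟩

end Groth.Agent.Serre
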